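import Mathlib.Algebra.Homology.DerivedCategory.Ext.ExactSequences

/-!
# Mayer–Vietoris sequences of `Ext` groups from short exact sequences `0 ⟶ A₁ ⟶ A₂ ⊞ A₃ ⟶ A₄ ⟶ 0`
-/

set_option autoImplicit false

universe w v u

open CategoryTheory CategoryTheory.Limits
open CategoryTheory.Abelian (Ext)
open CategoryTheory.Abelian.Ext

namespace K554.MvExt

variable {C : Type u} [Category.{v} C] [Abelian C] [HasExt.{w} C]

/-- restriction -/
noncomputable def res {A B : C} (f : A ⟶ B) (Y : C) (n : ℕ) : Ext B Y n →+ Ext A Y n :=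
  (mk₀ f).precomp Y (zero_add n)

theorem res_apply {A B : C} (f : A ⟶ B) {Y : C} {n : ℕ} (x : Ext B Y n) : res f Y n x = (mk₀ f).comp x (zero_add n) := rfl

theorem res_res {A B D : C} (f : A ⟶ B) (g : B ⟶ D) {Y : C} {n : ℕ} (x : Ext D Y n) :
    res f Y n (res g Y n x) = res (f ≫ g) Y n x := by
  rw [res_apply, res_apply, res_apply, mk₀_comp_mk₀_assoc]

theorem res_mk₀ {A B : C} (f : A ⟶ B) {Y : C} (x : B ⟶ Y) : res f Y 0 (mk₀ x) = mk₀ (f ≫ x) := by
  rw [res_apply, mk₀_comp_mk₀]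

theorem res_comp {A B : C} (f : A ⟶ B) {Y Y' : C} (g : Y ⟶ Y') {n : ℕ} (x : Ext B Y n) :
    res f Y' n (x.comp (mk₀ g) (add_zero n)) = (res f Y n x).comp (mk₀ g) (add_zero n) := by
  rw [res_apply, res_apply, comp_assoc_of_third_deg_zero]

/-- Mayer–Vietoris data -/
structure MV {A₁ A₂ A₃ A₄ : C} (p : A₁ ⟶ A₂) (q : A₁ ⟶ A₃) (j : A₂ ⟶ A₄) (f : A₃ ⟶ A₄) : Prop where
  zero : biprod.lift p (-q) ≫ biprod.desc j f = 0
  ex : (ShortComplex.mk _ _ zero).ShortExact

section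

variable {A₁ A₂ A₃ A₄ : C} {p : A₁ ⟶ A₂} {q : A₁ ⟶ A₃} {j : A₂ ⟶ A₄} {f : A₃ ⟶ A₄} (h : MV p q j f)

/-- connecting map -/
noncomputable def dl (Y : C) (n : ℕ) : Ext A₁ Y n →+ Ext A₄ Y (n + 1) :=
  (h.ex.extClass).precomp Y (Nat.add_comm 1 n)

theorem dl_apply {Y : C} {n : ℕ} (x : Ext A₁ Y n) : dl h Y n x = h.ex.extClass.comp x (Nat.add_comm 1 n) := rfl

theorem dl_comp {Y Y' : C} (g : Y ⟶ Y') {n : ℕ} (x : Ext A₁ Y n) :
    dl h Y' n (x.comp (mk₀ g) (add_zero n)) = (dl h Y n x).comp (mk₀ g) (add_zero (n + 1)) := by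
  rw [dl_apply, dl_apply, comp_assoc_of_third_deg_zero]

omit [HasExt.{w} C] in
include h in
theorem w : p ≫ j = q ≫ f := by
  have := h.zero
  rw [biprod.lift_desc, Preadditive.neg_comp, add_neg_eq_zero] at this
  exact this

theorem exists_dl {Y : C} {n : ℕ} (x : Ext A₄ Y (n + 1)) (h₁ : res j Y _ x = 0) (h₂ : res f Y _ x = 0) :
    ∃ y, dl h Y n y = x := by
  refine contravariant_sequence_exact₃ h.ex Y x ?_ (Nat.add_comm 1 n)
  apply biprod_ext
  · rw [Ext.comp_zero, ← res_apply, ← res_apply, res_res, biprod.inl_desc, h₁]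
  · rw [Ext.comp_zero, ← res_apply, ← res_apply, res_res, biprod.inr_desc, h₂]

theorem exists_of_dl_eq_zero {Y : C} {n : ℕ} (y : Ext A₁ Y n) (hy : dl h Y n y = 0) :
    ∃ a b, y = res p Y n a - res q Y n b := by
  obtain ⟨z, hz⟩ := contravariant_sequence_exact₁ h.ex Y y (Nat.add_comm 1 n) hy
  refine ⟨res biprod.inl Y n z, res biprod.inr Y n z, ?_⟩
  rw [← hz, ← res_apply, res_res, res_res]
  have h1 : biprod.lift p (-q) = p ≫ biprod.inl - q ≫ biprod.inr := by
    rw [biprod.lift_eq, Preadditive.neg_comp, sub_eq_add_neg]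
  have h2 : mk₀ (biprod.lift p (-q)) = mk₀ (p ≫ (biprod.inl : A₂ ⟶ A₂ ⊞ A₃)) - mk₀ (q ≫ biprod.inr) := by
    rw [h1, sub_eq_add_neg, mk₀_add, mk₀_neg, sub_eq_add_neg]
  change (mk₀ (biprod.lift p (-q))).comp z (zero_add n) = _
  rw [h2, sub_eq_add_neg, add_comp, neg_comp, ← sub_eq_add_neg]
  rfl

theorem dl_res_p {Y : C} {n : ℕ} (a : Ext A₂ Y n) : dl h Y n (res p Y n a) = 0 := by
  have h1 : res p Y n a = res (biprod.lift p (-q)) Y n (res biprod.fst Y n a) := by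
    rw [res_res, biprod.lift_fst]
  rw [h1]
  exact ShortComplex.ShortExact.extClass_comp_assoc h.ex _ (h := Nat.add_comm 1 n)

theorem dl_res_q {Y : C} {n : ℕ} (a : Ext A₃ Y n) : dl h Y n (res q Y n a) = 0 := by
  have h1 : res q Y n a = - res (biprod.lift p (-q)) Y n (res biprod.snd Y n a) := by
    rw [res_res, biprod.lift_snd, res_apply, res_apply, mk₀_neg, neg_comp, neg_neg]
  rw [h1, map_neg, neg_eq_zero]
  exact ShortComplex.ShortExact.extClass_comp_assoc h.ex _ (h := Nat.add_comm 1 n)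

theorem res_j_dl {Y : C} {n : ℕ} (y : Ext A₁ Y n) : res j Y (n + 1) (dl h Y n y) = 0 := by
  have h1 : res j Y (n + 1) (dl h Y n y) = res biprod.inl Y (n + 1) (res (biprod.desc j f) Y (n + 1) (dl h Y n y)) := by
    rw [res_res, biprod.inl_desc]
  rw [h1]
  have h2 : res (biprod.desc j f) Y (n + 1) (dl h Y n y) = 0 :=
    ShortComplex.ShortExact.comp_extClass_assoc h.ex _ (Nat.add_comm 1 n)
  rw [h2, map_zero]

theorem res_f_dl {Y : C} {n : ℕ} (y : Ext A₁ Y n) : res f Y (n + 1) (dl h Y n y) = 0 := by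
  have h1 : res f Y (n + 1) (dl h Y n y) = res biprod.inr Y (n + 1) (res (biprod.desc j f) Y (n + 1) (dl h Y n y)) := by
    rw [res_res, biprod.inr_desc]
  rw [h1]
  have h2 : res (biprod.desc j f) Y (n + 1) (dl h Y n y) = 0 :=
    ShortComplex.ShortExact.comp_extClass_assoc h.ex _ (Nat.add_comm 1 n)
  rw [h2, map_zero]

include h in
theorem exists_glue {Y : C} {n : ℕ} (a : Ext A₂ Y n) (b : Ext A₃ Y n) (hab : res p Y n a = res q Y n b) :
    ∃ x, res j Y n x = a ∧ res f Y n x = b := by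
  obtain ⟨x, hx⟩ := contravariant_sequence_exact₂ h.ex Y (res biprod.fst Y n a + res biprod.snd Y n b) (by
    rw [← res_apply, map_add, res_res, res_res]
    change res (biprod.lift p (-q) ≫ biprod.fst) Y n a + res (biprod.lift p (-q) ≫ biprod.snd) Y n b = 0
    rw [biprod.lift_fst, biprod.lift_snd, hab, res_apply, res_apply, mk₀_neg, neg_comp, add_neg_cancel])
  have hx' : res (biprod.desc j f) Y n x = res biprod.fst Y n a + res biprod.snd Y n b := hx
  refine ⟨x, ?_, ?_⟩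
  · have h1 : res j Y n x = res biprod.inl Y n (res (biprod.desc j f) Y n x) := by rw [res_res, biprod.inl_desc]
    rw [h1, hx', map_add, res_res, res_res, biprod.inl_fst, biprod.inl_snd, res_apply, res_apply, mk₀_zero, Ext.zero_comp,
      add_zero, mk₀_id_comp]
  · have h1 : res f Y n x = res biprod.inr Y n (res (biprod.desc j f) Y n x) := by rw [res_res, biprod.inr_desc]
    rw [h1, hx', map_add, res_res, res_res, biprod.inr_fst, biprod.inr_snd, res_apply, res_apply, mk₀_zero, Ext.zero_comp,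
      zero_add, mk₀_id_comp]

omit [HasExt.{w} C] in
include h in
/-- If both restrictions of a degree zero class vanish, it is zero. -/
theorem eq_zero₀ {Y : C} (x : A₄ ⟶ Y) (h₁ : j ≫ x = 0) (h₂ : f ≫ x = 0) : x = 0 := by
  have := h.ex.epi_g
  have h3 : biprod.desc j f ≫ x = 0 := by
    apply biprod.hom_ext'
    · rw [biprod.inl_desc_assoc, h₁, Limits.comp_zero]
    · rw [biprod.inr_desc_assoc, h₂, Limits.comp_zero]
  exact (cancel_epi (biprod.desc j f)).1 (h3.trans Limits.comp_zero.symm)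

include h in
theorem subsingleton {Y : C} {n : ℕ} [Subsingleton (Ext A₁ Y n)] [Subsingleton (Ext A₂ Y (n + 1))]
    [Subsingleton (Ext A₃ Y (n + 1))] : Subsingleton (Ext A₄ Y (n + 1)) := by
  refine subsingleton_of_forall_eq 0 fun x => ?_
  obtain ⟨y, rfl⟩ := exists_dl h x (Subsingleton.elim _ _) (Subsingleton.elim _ _)
  rw [Subsingleton.elim y 0, map_zero]

/-- naturality of the connecting map -/
theorem res_dl {A₁' A₂' A₃' A₄' : C} {p' : A₁' ⟶ A₂'} {q' : A₁' ⟶ A₃'} {j' : A₂' ⟶ A₄'} {f' : A₃' ⟶ A₄'}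
    (h' : MV p' q' j' f') (u₁ : A₁' ⟶ A₁) (u₂ : A₂' ⟶ A₂) (u₃ : A₃' ⟶ A₃) (u₄ : A₄' ⟶ A₄)
    (hp : p' ≫ u₂ = u₁ ≫ p) (hq : q' ≫ u₃ = u₁ ≫ q) (hj : j' ≫ u₄ = u₂ ≫ j) (hf : f' ≫ u₄ = u₃ ≫ f)
    {Y : C} {n : ℕ} (y : Ext A₁ Y n) : res u₄ Y (n + 1) (dl h Y n y) = dl h' Y n (res u₁ Y n y) := by
  let φ : ShortComplex.mk _ _ h'.zero ⟶ ShortComplex.mk _ _ h.zero :=
    { τ₁ := u₁
      τ₂ := biprod.map u₂ u₃
      τ₃ := u₄
      comm₁₂ := by
        change u₁ ≫ biprod.lift p (-q) = biprod.lift p' (-q') ≫ biprod.map u₂ u₃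
        apply biprod.hom_ext
        · rw [Category.assoc, Category.assoc, biprod.lift_fst, biprod.map_fst, biprod.lift_fst_assoc, hp]
        · rw [Category.assoc, Category.assoc, biprod.lift_snd, biprod.map_snd, biprod.lift_snd_assoc,
            Preadditive.comp_neg, Preadditive.neg_comp, hq]
      comm₂₃ := by
        change biprod.map u₂ u₃ ≫ biprod.desc j f = biprod.desc j' f' ≫ u₄
        apply biprod.hom_ext'
        · rw [biprod.inl_map_assoc, biprod.inl_desc, biprod.inl_desc_assoc, hj]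
        · rw [biprod.inr_map_assoc, biprod.inr_desc, biprod.inr_desc_assoc, hf] }
  have h1 := ShortComplex.ShortExact.extClass_naturality h'.ex h.ex φ
  rw [dl_apply, dl_apply, res_apply, res_apply]
  rw [← Ext.comp_assoc (mk₀ u₄) h.ex.extClass y (a₁₂ := 1) (zero_add 1) (Nat.add_comm 1 n) (by omega)]
  rw [← Ext.comp_assoc h'.ex.extClass (mk₀ u₁) y (a₁₂ := 1) (add_zero 1) (zero_add n) (by omega)]
  exact congrArg (fun k => k.comp y (Nat.add_comm 1 n)) h1.symm

end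

end K554.MvExt
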