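import Groth.Agent.EtCoh.K554.Mv
import Groth.Agent.EtCoh.K554.MvExt

/-!
# Mayer–Vietoris for three open subsets on the small étale site
-/

set_option autoImplicit false

universe u

open CategoryTheory CategoryTheory.Limits AlgebraicGeometry Opposite
open CategoryTheory.Abelian (Ext)
open CategoryTheory.Abelian.Ext

noncomputable section

namespace K554.Mv3

open K554.Mv K554.MvExt K56.T4

attribute [local instance 3000] hsE hxE

variable {P : Scheme.{u}}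

theorem mv {U₁ U₂ U₃ U₄ : P.Opens} (h₁ : U₁ = U₂ ⊓ U₃) (h₄ : U₄ = U₂ ⊔ U₃) :
    MV (Zi (h₁.le.trans inf_le_left)) (Zi (h₁.le.trans inf_le_right)) (Zi (h₄.ge.trans' le_sup_left))
      (Zi (h₄.ge.trans' le_sup_right)) :=
  ⟨zero' h₁ h₄, hS h₁ h₄⟩

/-- sections as `Ext⁰` -/
def m0 (F : EtCoh.Ab P) (U : P.Opens) : EtCoh.sect F (ob U) ≃+ Ext (Zo U) F 0 :=
  (evo U F).symm.trans Ext.addEquiv₀.symm

theorem m0_apply {F : EtCoh.Ab P} {U : P.Opens} (s : EtCoh.sect F (ob U)) : m0 F U s = mk₀ ((evo U F).symm s) := rfl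

theorem res_m0 {F : EtCoh.Ab P} {U V : P.Opens} (h : V ≤ U) (s : EtCoh.sect F (ob U)) :
    res (Zi h) F 0 (m0 F U s) = m0 F V (rst F h s) := by
  rw [m0_apply, m0_apply, res_mk₀]
  congr 1
  apply (evo V F).injective
  rw [evo_Zi, AddEquiv.apply_symm_apply, AddEquiv.apply_symm_apply]

theorem m0_comp {F G : EtCoh.Ab P} (f : F ⟶ G) {U : P.Opens} (s : EtCoh.sect F (ob U)) :
    (m0 F U s).comp (mk₀ f) (add_zero 0) = m0 G U (f.hom.app _ s) := by
  rw [m0_apply, m0_apply, mk₀_comp_mk₀]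
  congr 1
  apply (evo U G).injective
  rw [evo_comp, AddEquiv.apply_symm_apply, AddEquiv.apply_symm_apply]

/-- the constant sheaf -/
abbrev cst (P : Scheme.{u}) : EtCoh.Ab P :=
  (constantSheaf P.smallEtaleTopology AddCommGrpCat.{u + 1}).obj (AddCommGrpCat.of (ULift.{u + 1} ℤ))

/-- Comparison with cohomology. -/
def toH (F : EtCoh.Ab P) (n : ℕ) : Ext (Zo (⊤ : P.Opens)) F n →+ Ext (cst P) F n := res (ZtopIso P).inv F n

theorem toH_bij (F : EtCoh.Ab P) (n : ℕ) : Function.Bijective (toH F n) := by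
  refine Function.bijective_iff_has_inverse.2 ⟨res (ZtopIso P).hom F n, fun x => ?_, fun x => ?_⟩
  · refine (res_res _ _ x).trans ?_
    rw [Iso.hom_inv_id, res_apply, mk₀_id_comp]
  · refine (res_res _ _ x).trans ?_
    rw [Iso.inv_hom_id, res_apply, mk₀_id_comp]

section

variable (a b c : P.Opens) (hU : a ⊔ (b ⊔ c) = ⊤)

theorem e₁ : a ⊓ (b ⊓ c) = (a ⊓ b) ⊓ (a ⊓ c) := by
  rw [inf_inf_distrib_left]

theorem e₂ : a ⊓ (b ⊔ c) = (a ⊓ b) ⊔ (a ⊓ c) := by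
  ext x
  change (x ∈ a ∧ (x ∈ b ∨ x ∈ c)) ↔ ((x ∈ a ∧ x ∈ b) ∨ (x ∈ a ∧ x ∈ c))
  tauto

/-- the connecting map -/
def e (F : EtCoh.Ab P) : EtCoh.sect F (ob (a ⊓ (b ⊓ c))) →+ Ext (cst P) F 2 :=
  (toH F 2).comp ((dl (mv rfl hU.symm) F 1).comp ((dl (mv (e₁ a b c) (e₂ a b c)) F 0).comp (m0 F _).toAddMonoidHom))

theorem e_apply (F : EtCoh.Ab P) (s : EtCoh.sect F (ob (a ⊓ (b ⊓ c)))) : e a b c hU F s =
    toH F 2 (dl (mv rfl hU.symm) F 1 (dl (mv (e₁ a b c) (e₂ a b c)) F 0 (m0 F _ s))) := rfl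

theorem e_nat (F G : EtCoh.Ab P) (f : F ⟶ G) (s : EtCoh.sect F (ob (a ⊓ (b ⊓ c)))) :
    e a b c hU G (f.hom.app _ s) = (e a b c hU F s).comp (mk₀ f) (add_zero 2) := by
  rw [e_apply, e_apply, ← m0_comp, dl_comp, dl_comp]
  exact res_comp _ _ _

section

variable (F : EtCoh.Ab P) (hF : ∀ V ∈ ({a, b, c, a ⊓ b, a ⊓ c, b ⊓ c} : Set P.Opens), ∀ q : ℕ,
          Subsingleton (CategoryTheory.Abelian.Ext (Zo V) F (q + 1)))

include hF

theorem sbc (q : ℕ) : Subsingleton (Ext (Zo (b ⊔ c)) F (q + 2)) := by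
  have h1 := hF (b ⊓ c) (by simp) q
  have h2 := hF b (by simp) (q + 1)
  have h3 := hF c (by simp) (q + 1)
  exact subsingleton (mv (U₁ := b ⊓ c) (U₂ := b) (U₃ := c) (U₄ := b ⊔ c) rfl rfl)

theorem e_surj : Function.Surjective (e a b c hU F) := by
  intro x
  obtain ⟨x, rfl⟩ := (toH_bij F 2).2 x
  have h1 := sbc a b c F hF 0
  have h2 := hF a (by simp) 1
  obtain ⟨y, rfl⟩ := exists_dl (mv rfl hU.symm) x (Subsingleton.elim _ _) (Subsingleton.elim _ _)
  have h3 := hF (a ⊓ b) (by simp) 0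
  have h4 := hF (a ⊓ c) (by simp) 0
  obtain ⟨z, rfl⟩ := exists_dl (mv (e₁ a b c) (e₂ a b c)) y (Subsingleton.elim _ _) (Subsingleton.elim _ _)
  obtain ⟨s, rfl⟩ := (m0 F _).surjective z
  exact ⟨s, rfl⟩

omit hF in
/-- compatibility of the two connecting maps -/
theorem dl_rst (z : Ext (Zo (b ⊓ c)) F 0) :
    res (Zi (inf_le_right : a ⊓ (b ⊔ c) ≤ b ⊔ c)) F 1 (dl (mv (U₁ := b ⊓ c) (U₂ := b) (U₃ := c) (U₄ := b ⊔ c) rfl rfl) F 0 z) =
      dl (mv (e₁ a b c) (e₂ a b c)) F 0 (res (Zi (inf_le_right : a ⊓ (b ⊓ c) ≤ b ⊓ c)) F 0 z) := by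
  refine res_dl _ _ (Zi (inf_le_right : a ⊓ (b ⊓ c) ≤ b ⊓ c)) (Zi (inf_le_right : a ⊓ b ≤ b))
    (Zi (inf_le_right : a ⊓ c ≤ c)) _ ?_ ?_ ?_ ?_ z
  all_goals rw [Zi_comp, Zi_comp]

theorem e_ker (s : EtCoh.sect F (ob (a ⊓ (b ⊓ c)))) (hs : e a b c hU F s = 0) :
    ∃ (x : EtCoh.sect F (ob (a ⊓ b))) (y : EtCoh.sect F (ob (a ⊓ c))) (z : EtCoh.sect F (ob (b ⊓ c))),
          s = rst F (by exact le_inf inf_le_left (inf_le_right.trans inf_le_left)) x +
            rst F (by exact le_inf inf_le_left (inf_le_right.trans inf_le_right)) y +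
            rst F (by exact inf_le_right) z := by
  rw [e_apply] at hs
  have hs' := (toH_bij F 2).1 (hs.trans (map_zero _).symm)
  obtain ⟨α, β, hαβ⟩ := exists_of_dl_eq_zero _ _ hs'
  have h1 := hF a (by simp) 0
  have h2 := hF b (by simp) 0
  have h3 := hF c (by simp) 0
  obtain ⟨z, rfl⟩ := exists_dl (mv (U₁ := b ⊓ c) (U₂ := b) (U₃ := c) (U₄ := b ⊔ c) rfl rfl) β
    (Subsingleton.elim _ _) (Subsingleton.elim _ _)
  rw [Subsingleton.elim α 0, map_zero, zero_sub, dl_rst a b c F, ← sub_eq_zero, sub_neg_eq_add, ← map_add] at hαβ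
  obtain ⟨x, y, hxy⟩ := exists_of_dl_eq_zero _ _ hαβ
  obtain ⟨x, rfl⟩ := (m0 F _).surjective x
  obtain ⟨y, rfl⟩ := (m0 F _).surjective y
  obtain ⟨z, rfl⟩ := (m0 F _).surjective z
  refine ⟨x, -y, -z, ?_⟩
  rw [res_m0, res_m0, res_m0, ← map_add, ← map_sub] at hxy
  have h := (m0 F _).injective hxy
  rw [map_neg, map_neg, ← sub_eq_add_neg, ← sub_eq_add_neg, eq_sub_iff_add_eq]
  exact h

include hU in
theorem e_one (H1 : ∀ (x : EtCoh.sect F (ob (a ⊓ b))) (y : EtCoh.sect F (ob (a ⊓ c))) (z : EtCoh.sect F (ob (b ⊓ c))),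
            rst F (V := a ⊓ (b ⊓ c)) (by exact inf_le_right) z = rst F (by exact le_inf inf_le_left (inf_le_right.trans inf_le_left)) x +
              rst F (by exact le_inf inf_le_left (inf_le_right.trans inf_le_right)) y →
            ∃ (s : EtCoh.sect F (ob b)) (t : EtCoh.sect F (ob c)), z = rst F inf_le_left s + rst F inf_le_right t)
    (H2 : ∀ (x : EtCoh.sect F (ob (a ⊓ b))) (y : EtCoh.sect F (ob (a ⊓ c))),
            rst F (V := a ⊓ (b ⊓ c)) (by exact le_inf inf_le_left (inf_le_right.trans inf_le_left)) x =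
              rst F (by exact le_inf inf_le_left (inf_le_right.trans inf_le_right)) y →
            ∃ r : EtCoh.sect F (ob a), rst F inf_le_left r = x ∧ rst F inf_le_left r = y) :
    Subsingleton (Ext (cst P) F 1) := by
  have key : Subsingleton (Ext (Zo (⊤ : P.Opens)) F 1) := by
    refine subsingleton_of_forall_eq 0 fun x => ?_
    have h1 := hF a (by simp) 0
    have h2 := hF b (by simp) 0
    have h3 := hF c (by simp) 0
    have D₁ := mv (U₁ := a ⊓ (b ⊔ c)) (U₂ := a) (U₃ := b ⊔ c) (U₄ := ⊤) rfl hU.symm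
    have D₂ := mv (U₁ := b ⊓ c) (U₂ := b) (U₃ := c) (U₄ := b ⊔ c) rfl rfl
    have D₃ := mv (U₁ := a ⊓ (b ⊓ c)) (U₂ := a ⊓ b) (U₃ := a ⊓ c) (U₄ := a ⊓ (b ⊔ c)) (e₁ a b c) (e₂ a b c)
    -- the restriction to `b ⊔ c` vanishes
    have hbc : res (Zi (le_top : b ⊔ c ≤ ⊤)) F 1 x = 0 := by
      obtain ⟨z, hz⟩ := exists_dl D₂ (res (Zi (le_top : b ⊔ c ≤ ⊤)) F 1 x)
        (Subsingleton.elim _ _) (Subsingleton.elim _ _)
      have h4 : dl D₃ F 0 (res (Zi (inf_le_right : a ⊓ (b ⊓ c) ≤ b ⊓ c)) F 0 z) = 0 := by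
        rw [← dl_rst a b c F, hz, res_res, Zi_comp]
        have h5 : Zi (show a ⊓ (b ⊔ c) ≤ (⊤ : P.Opens) from le_top) =
            Zi (inf_le_left : a ⊓ (b ⊔ c) ≤ a) ≫ Zi (le_top : a ≤ ⊤) := (Zi_comp _ _).symm
        rw [h5, ← res_res, Subsingleton.elim (res (Zi (le_top : a ≤ ⊤)) F 1 x) 0, map_zero]
      obtain ⟨p, q, hpq⟩ := exists_of_dl_eq_zero D₃ _ h4
      obtain ⟨p, rfl⟩ := (m0 F _).surjective p
      obtain ⟨q, rfl⟩ := (m0 F _).surjective q
      obtain ⟨z, rfl⟩ := (m0 F _).surjective z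
      rw [res_m0, res_m0, res_m0, ← map_sub] at hpq
      obtain ⟨s, t, hst⟩ := H1 p (-q) z (by
        rw [map_neg, ← sub_eq_add_neg]
        exact (m0 F _).injective hpq)
      rw [← hz, hst, map_add, map_add, ← res_m0, ← res_m0]
      rw [show dl D₂ F 0 (res (Zi inf_le_left) F 0 (m0 F b s)) = 0 from dl_res_p D₂ _,
        show dl D₂ F 0 (res (Zi inf_le_right) F 0 (m0 F c t)) = 0 from dl_res_q D₂ _, add_zero]
    obtain ⟨y, rfl⟩ := exists_dl D₁ x (Subsingleton.elim _ _) hbc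
    -- `y` is a section over `a ⊓ (b ⊔ c)`
    have hy1 : (res (Zi (inf_le_inf_left a le_sup_left : a ⊓ b ≤ a ⊓ (b ⊔ c))) F 0 y) =
        m0 F _ ((m0 F _).symm (res (Zi (inf_le_inf_left a le_sup_left : a ⊓ b ≤ a ⊓ (b ⊔ c))) F 0 y)) :=
      ((m0 F _).apply_symm_apply _).symm
    have hy2 : (res (Zi (inf_le_inf_left a le_sup_right : a ⊓ c ≤ a ⊓ (b ⊔ c))) F 0 y) =
        m0 F _ ((m0 F _).symm (res (Zi (inf_le_inf_left a le_sup_right : a ⊓ c ≤ a ⊓ (b ⊔ c))) F 0 y)) :=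
      ((m0 F _).apply_symm_apply _).symm
    obtain ⟨r, hr1, hr2⟩ := H2 ((m0 F _).symm (res (Zi (inf_le_inf_left a le_sup_left : a ⊓ b ≤ a ⊓ (b ⊔ c))) F 0 y))
      ((m0 F _).symm (res (Zi (inf_le_inf_left a le_sup_right : a ⊓ c ≤ a ⊓ (b ⊔ c))) F 0 y)) (by
        apply (m0 F _).injective
        rw [← res_m0, ← res_m0, ← hy1, ← hy2, res_res, res_res, Zi_comp, Zi_comp])
    rw [← hr1, ← res_m0] at hy1
    rw [← hr2, ← res_m0] at hy2
    have hy : y = res (Zi (inf_le_left : a ⊓ (b ⊔ c) ≤ a)) F 0 (m0 F a r) := by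
      obtain ⟨y, rfl⟩ := (mk₀_bijective _ _).2 y
      have h6 : y - Zi (inf_le_left : a ⊓ (b ⊔ c) ≤ a) ≫ (evo a F).symm r = 0 := by
        refine eq_zero₀ D₃ _ ?_ ?_
        · rw [Preadditive.comp_sub, sub_eq_zero]
          rw [m0_apply, res_mk₀, res_mk₀] at hy1
          refine ((mk₀_bijective _ _).1 hy1).trans ?_
          rw [← Category.assoc, Zi_comp]
        · rw [Preadditive.comp_sub, sub_eq_zero]
          rw [m0_apply, res_mk₀, res_mk₀] at hy2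
          refine ((mk₀_bijective _ _).1 hy2).trans ?_
          rw [← Category.assoc, Zi_comp]
      rw [m0_apply, res_mk₀, sub_eq_zero.1 h6]
    rw [hy]
    exact dl_res_p D₁ _
  exact (toH_bij F 1).2.subsingleton

end

end

/-- NODE M: Mayer–Vietoris for three opens `a b c` covering `P` (twice the Mayer–Vietoris sequence of two opens). -/
theorem nodeM (a b c : P.Opens) (hU : a ⊔ (b ⊔ c) = ⊤) :
    ∃ e : ∀ F : EtCoh.Ab P, EtCoh.sect F (ob (a ⊓ (b ⊓ c))) →+ EtCoh.H P F 2,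
      (∀ (F G : EtCoh.Ab P) (f : F ⟶ G) (s : EtCoh.sect F (ob (a ⊓ (b ⊓ c)))),
        e G (f.hom.app _ s) = Sheaf.H.map f 2 (e F s)) ∧
      ∀ F : EtCoh.Ab P,
        (∀ V ∈ ({a, b, c, a ⊓ b, a ⊓ c, b ⊓ c} : Set P.Opens), ∀ q : ℕ,
          Subsingleton (CategoryTheory.Abelian.Ext (Zo V) F (q + 1))) →
        Function.Surjective (e F) ∧
        (∀ s, e F s = 0 → ∃ (x : EtCoh.sect F (ob (a ⊓ b))) (y : EtCoh.sect F (ob (a ⊓ c))) (z : EtCoh.sect F (ob (b ⊓ c))),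
          s = rst F (by exact le_inf inf_le_left (inf_le_right.trans inf_le_left)) x +
            rst F (by exact le_inf inf_le_left (inf_le_right.trans inf_le_right)) y +
            rst F (by exact inf_le_right) z) ∧
        ((∀ (x : EtCoh.sect F (ob (a ⊓ b))) (y : EtCoh.sect F (ob (a ⊓ c))) (z : EtCoh.sect F (ob (b ⊓ c))),
            rst F (V := a ⊓ (b ⊓ c)) (by exact inf_le_right) z = rst F (by exact le_inf inf_le_left (inf_le_right.trans inf_le_left)) x +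
              rst F (by exact le_inf inf_le_left (inf_le_right.trans inf_le_right)) y →
            ∃ (s : EtCoh.sect F (ob b)) (t : EtCoh.sect F (ob c)), z = rst F inf_le_left s + rst F inf_le_right t) →
          (∀ (x : EtCoh.sect F (ob (a ⊓ b))) (y : EtCoh.sect F (ob (a ⊓ c))),
            rst F (V := a ⊓ (b ⊓ c)) (by exact le_inf inf_le_left (inf_le_right.trans inf_le_left)) x =
              rst F (by exact le_inf inf_le_left (inf_le_right.trans inf_le_right)) y →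
            ∃ r : EtCoh.sect F (ob a), rst F inf_le_left r = x ∧ rst F inf_le_left r = y) →
          Subsingleton (EtCoh.H P F 1)) :=
  ⟨e a b c hU, e_nat a b c hU, fun F hF => ⟨e_surj a b c hU F hF, e_ker a b c hU F hF, e_one a b c hU F hF⟩⟩

end K554.Mv3
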