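import Groth.Agent.AlgSp.K646.ZMV
import Groth.Agent.EtCoh.K56.Defs

/-!
# Free abelian sheaves on open subschemes: Mayer–Vietoris on the small étale site
-/

set_option autoImplicit false

universe u

open CategoryTheory CategoryTheory.Limits AlgebraicGeometry Opposite
open CategoryTheory.Abelian (Ext)
open CategoryTheory.Abelian.Ext

noncomputable section

namespace K554.Mv

open Groth.Agent.Etbase.FreeSheaf K56.T4

/-- Short names for the instances (the kernel is slow on the long ones). -/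
theorem hsE (P : Scheme.{u}) : HasSheafify P.smallEtaleTopology AddCommGrpCat.{u + 1} := inferInstance

attribute [local instance 3000] hsE

theorem hxE (P : Scheme.{u}) : HasExt.{u + 1} (EtCoh.Ab P) := inferInstance

attribute [local instance 3000] hxE

variable {P : Scheme.{u}}

instance (U : P.Opens) (T : P.Etaleᵒᵖ) : Subsingleton ((PO U).obj T) :=
  ⟨fun _ _ => ULift.ext _ _ (PLift.down_injective (Subsingleton.elim _ _))⟩

/-- inclusions -/
def PI {U V : P.Opens} (h : V ≤ U) : PO V ⟶ PO U where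
  app T := TypeCat.ofHom (fun x => ⟨⟨fun t => h (x.down.down t)⟩⟩)
  naturality _ _ _ := by
    ext x
    exact Subsingleton.elim _ _

/-- inclusions -/
abbrev Zi {U V : P.Opens} (h : V ≤ U) : Zo V ⟶ Zo U := Zmap.{u + 1, u, u + 1} (PI h)

theorem Zi_comp {U V W : P.Opens} (h : V ≤ U) (h' : W ≤ V) : Zi h' ≫ Zi h = Zi (h'.trans h) :=
  K646.ZMV.Zmap_comp (J := P.smallEtaleTopology) (PI h') (PI h)

theorem ob_hom (U : P.Opens) : (ob U).hom = U.ι := rfl

theorem hom_mem {T : P.Etale} {U : P.Opens} (g : T ⟶ ob U) (t : T.left) : T.hom t ∈ U := by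
  have h1 : T.hom t = U.ι (g.left t) := by
    rw [← MorphismProperty.Over.w g]; rfl
  rw [h1]
  exact (g.left t).2

/-- factorisation through an open subscheme -/
def lft {Y : Scheme.{u}} (f : Y ⟶ P) (U : P.Opens) (h : ∀ t : Y, f t ∈ U) : Y ⟶ (U : Scheme.{u}) :=
  IsOpenImmersion.lift U.ι f (by
    rintro _ ⟨t, rfl⟩
    rw [Scheme.Opens.range_ι]
    exact h t)

theorem lft_ι {Y : Scheme.{u}} (f : Y ⟶ P) (U : P.Opens) (h : ∀ t : Y, f t ∈ U) : lft f U h ≫ U.ι = f :=
  IsOpenImmersion.lift_fac _ _ _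

theorem lft_uniq {Y : Scheme.{u}} {U : P.Opens} (g g' : Y ⟶ (U : Scheme.{u})) (h : g ≫ U.ι = g' ≫ U.ι) : g = g' :=
  (cancel_mono U.ι).1 h

/-- `PO U` is represented by `ob U` -/
def repr (U : P.Opens) : (PO U).RepresentableBy (ob U) where
  homEquiv {T} :=
    { toFun := fun g => ⟨⟨fun t => hom_mem g t⟩⟩
      invFun := fun h => MorphismProperty.Over.homMk (lft T.hom U h.down.down) (lft_ι _ _ _)
      left_inv := fun g => by
        apply MorphismProperty.Over.Hom.ext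
        exact lft_uniq (lft T.hom U (hom_mem g)) g.left ((lft_ι T.hom U (hom_mem g)).trans (MorphismProperty.Over.w g).symm)
      right_inv := fun h => Subsingleton.elim _ _ }
  homEquiv_comp f g := Subsingleton.elim _ _

/-- sections of a sheaf -/
def evo (U : P.Opens) (F : EtCoh.Ab P) : (Zo U ⟶ F) ≃+ EtCoh.sect F (ob U) := ev (repr U) F

theorem evo_comp {U : P.Opens} {F G : EtCoh.Ab P} (φ : Zo U ⟶ F) (f : F ⟶ G) :
    evo U G (φ ≫ f) = f.hom.app (op (ob U)) (evo U F φ) := rfl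

theorem evo_Zi {U V : P.Opens} (h : V ≤ U) {F : EtCoh.Ab P} (φ : Zo U ⟶ F) :
    evo V F (Zi h ≫ φ) = rst F h (evo U F φ) := by
  rw [evo, ev_Zmap (repr V) (repr U)]
  have h1 : (repr U).homEquiv.symm ((PI h).app (op (ob V)) ((repr V).homEquiv (𝟙 (ob V)))) =
      (EtZar.zarToEt P).map (homOfLE h) := by
    apply (repr U).homEquiv.injective
    exact Subsingleton.elim _ _
  rw [h1]
  rfl

theorem rst_rst (F : EtCoh.Ab P) {U V W : P.Opens} (h : V ≤ U) (h' : W ≤ V) (x : EtCoh.sect F (ob U)) :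
    rst F h' (rst F h x) = rst F (h'.trans h) x := by
  have h1 : (EtZar.zarToEt P).map (homOfLE (h'.trans h)) =
    (EtZar.zarToEt P).map (homOfLE h') ≫ (EtZar.zarToEt P).map (homOfLE h) := by
    rw [← Functor.map_comp]
    rfl
  have h2 := congrArg (fun k => (F.obj.map k.op).hom x) h1
  rw [op_comp, F.obj.map_comp] at h2
  exact h2.symm

/-- An étale `P`-scheme over the open part `U` -/
def cut (T : P.Etale) (U : P.Opens) : P.Etale := Scheme.Etale.mk ((T.hom ⁻¹ᵁ U).ι ≫ T.hom)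

/-- inclusion of the open part -/
def cutHom (T : P.Etale) (U : P.Opens) : cut T U ⟶ T := MorphismProperty.Over.homMk (T.hom ⁻¹ᵁ U).ι rfl

theorem cut_mem (T : P.Etale) (U : P.Opens) (t : (cut T U).left) : (cut T U).hom t ∈ U :=
  ((t : (T.hom ⁻¹ᵁ U : T.left.Opens)) : (T.hom ⁻¹ᵁ U : T.left.Opens)).2

/-- The Mayer–Vietoris square. -/
theorem sq {U₁ U₂ U₃ U₄ : P.Opens} (h₁ : U₁ = U₂ ⊓ U₃) (h₄ : U₄ = U₂ ⊔ U₃) :
    K646.ZMV.Sq P.smallEtaleTopology (PI (h₁.le.trans inf_le_left)) (PI (h₁.le.trans inf_le_right))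
      (PI (h₄.ge.trans' le_sup_left)) (PI (h₄.ge.trans' le_sup_right)) where
  w _ _ := Subsingleton.elim _ _
  inj _ _ _ _ := Subsingleton.elim _ _
  inj' _ _ _ _ := Subsingleton.elim _ _
  pb T u v _ := ⟨⟨⟨fun t => h₁.ge ⟨u.down.down t, v.down.down t⟩⟩⟩, Subsingleton.elim _ _, Subsingleton.elim _ _⟩
  agree T v v' _ := ⟨⊤, P.smallEtaleTopology.top_mem _, fun _ _ _ => Or.inl (Subsingleton.elim _ _)⟩
  cov T w := by
    refine ⟨Sieve.ofArrows (fun b : Bool => cut T (cond b U₂ U₃)) (fun b => cutHom T (cond b U₂ U₃)), ?_, ?_⟩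
    · rw [Scheme.ofArrows_mem_smallEtaleTopology_iff]
      rw [Set.eq_univ_iff_forall]
      intro t
      rw [Set.mem_iUnion]
      rcases h₄.le (w.down.down t) with h | h
      · exact ⟨true, ⟨t, h⟩, rfl⟩
      · exact ⟨false, ⟨t, h⟩, rfl⟩
    · rintro T' g ⟨_, k, _, ⟨b⟩, rfl⟩
      cases b with
      | true => exact Or.inl ⟨(PO U₂).map k.op ⟨⟨cut_mem T U₂⟩⟩, Subsingleton.elim _ _⟩
      | false => exact Or.inr ⟨(PO U₃).map k.op ⟨⟨cut_mem T U₃⟩⟩, Subsingleton.elim _ _⟩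

theorem zero' {U₁ U₂ U₃ U₄ : P.Opens} (h₁ : U₁ = U₂ ⊓ U₃) (h₄ : U₄ = U₂ ⊔ U₃) :
    biprod.lift (Zi (h₁.le.trans inf_le_left)) (-Zi (h₁.le.trans inf_le_right)) ≫
    biprod.desc (Zi (h₄.ge.trans' le_sup_left)) (Zi (h₄.ge.trans' le_sup_right)) = 0 :=
  K646.ZMV.zero.{u + 1, u, u + 1} (J := P.smallEtaleTopology) (sq h₁ h₄)

/-- The Mayer–Vietoris short complex. -/
abbrev S {U₁ U₂ U₃ U₄ : P.Opens} (h₁ : U₁ = U₂ ⊓ U₃) (h₄ : U₄ = U₂ ⊔ U₃) : ShortComplex (EtCoh.Ab P) :=
  ShortComplex.mk (biprod.lift (Zi (h₁.le.trans inf_le_left)) (-Zi (h₁.le.trans inf_le_right)))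
    (biprod.desc (Zi (h₄.ge.trans' le_sup_left)) (Zi (h₄.ge.trans' le_sup_right))) (zero' h₁ h₄)

theorem hS {U₁ U₂ U₃ U₄ : P.Opens} (h₁ : U₁ = U₂ ⊓ U₃) (h₄ : U₄ = U₂ ⊔ U₃) : (S h₁ h₄).ShortExact :=
  K646.ZMV.shortExact (J := P.smallEtaleTopology) (sq h₁ h₄)

/-- The whole space. -/
def ZtopIso (P : Scheme.{u}) : Zo (⊤ : P.Opens) ≅
    (constantSheaf P.smallEtaleTopology AddCommGrpCat.{u + 1}).obj (AddCommGrpCat.of (ULift.{u + 1} ℤ)) :=
  (presheafToSheaf P.smallEtaleTopology _).mapIso (NatIso.ofComponents (fun T => AddEquiv.toAddCommGrpIso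
    (by
      letI : Unique ((PO (⊤ : P.Opens)).obj T) := ⟨⟨⟨⟨fun _ => trivial⟩⟩⟩, fun _ => Subsingleton.elim _ _⟩
      exact ((FreeAbelianGroup.uniqueEquiv ((PO (⊤ : P.Opens)).obj T)).trans AddEquiv.ulift.symm :
      FreeAbelianGroup ((PO (⊤ : P.Opens)).obj T) ≃+ ULift.{u + 1} ℤ))) (fun f => by
        refine AddCommGrpCat.hom_ext (FreeAbelianGroup.lift_ext _ _ fun p => ?_)
        rfl))

/-- NODE M1: relative vanishing on affine opens -/
theorem subsingleton_Ext (U : P.Opens) (hU : IsAffineOpen U) (F : EtCoh.Ab P) (hF : Groth.Agent.Etbase.EtCartan.EtAcyc F.obj)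
    (q : ℕ) : Subsingleton (CategoryTheory.Abelian.Ext (Zo U) F (q + 1)) := by
  induction q generalizing F with
  | zero =>
    let I : InjectivePresentation F := Classical.arbitrary _
    have hS : (ShortComplex.mk I.f (cokernel.π I.f) (cokernel.condition I.f)).ShortExact :=
      { exact := ShortComplex.exact_cokernel I.f }
    have := I.injective
    have h := Groth.Agent.Etbase.EtCartan.etAcyc_step I.f (cokernel.π I.f) (cokernel.condition I.f) hS hF
    refine subsingleton_of_forall_eq 0 fun x => ?_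
    obtain ⟨y, hy⟩ := Ext.covariant_sequence_exact₁ _ hS x (Ext.eq_zero_of_injective _) (zero_add 1)
    obtain ⟨y, rfl⟩ := (Ext.mk₀_bijective _ _).2 y
    obtain ⟨t, ht⟩ := h.1 (ob U) hU (evo U _ y)
    have h3 : (evo U _).symm t ≫ cokernel.π I.f = y := by
      apply (evo U _).injective
      rw [evo_comp, AddEquiv.apply_symm_apply]
      exact ht
    rw [← hy, ← h3, ← Ext.mk₀_comp_mk₀]
    have h4 : (Ext.mk₀ (cokernel.π I.f)).comp hS.extClass (zero_add 1) = 0 := hS.comp_extClass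
    refine (Ext.comp_assoc_of_second_deg_zero _ _ _ _).trans ?_
    exact (congrArg (fun z => (Ext.mk₀ ((evo U _).symm t)).comp z (zero_add 1)) h4).trans
      (Ext.comp_zero _ _ _ _ _)
  | succ q ih =>
    let I : InjectivePresentation F := Classical.arbitrary _
    have hS : (ShortComplex.mk I.f (cokernel.π I.f) (cokernel.condition I.f)).ShortExact :=
      { exact := ShortComplex.exact_cokernel I.f }
    have := I.injective
    have h := Groth.Agent.Etbase.EtCartan.etAcyc_step I.f (cokernel.π I.f) (cokernel.condition I.f) hS hF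
    have := ih _ h.2
    refine subsingleton_of_forall_eq 0 fun x => ?_
    obtain ⟨y, hy⟩ := Ext.covariant_sequence_exact₁ _ hS x (Ext.eq_zero_of_injective _) rfl
    rw [← hy, Subsingleton.elim y 0, Ext.zero_comp]

end K554.Mv
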